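import Mathlib
import Cfsg.Agent.H765.D3.Iso
import Cfsg.Agent.CpAut.RgdTwD4
import Cfsg.Agent.H491.FS.Std
import Cfsg.Agent.Lib.FrattiniPGroup

/-!
# The embedding of `Sy φ` in `³D₄(q)` and the root group datum (S5261, REAL)
-/

set_option autoImplicit false
set_option linter.unusedSectionVars false

namespace Cfsg.Agent.H491.D4

open Cfsg Cfsg.Lie Cfsg.Agent.H765.D3
open Cfsg.Agent.H765.D3.Sy (Q1 Q2 Z1 Z2 Z3 Z4 u1 u2 u3 u4 u5 u6)
open Cfsg.Agent.Hexagon.Pos Cfsg.Agent.Hexagon.PosOfRel Cfsg.Agent.Hexagon.TwD4Par Cfsg.Agent.Hexagon.TwD4Rel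
open Cfsg.Agent.ChevalleyStructure
open Cfsg.Agent.ChevalleyStructure.D4Comm (xG)
open Cfsg.Agent.ChevalleyStructure.D4Twisted
open CoxeterSystem Cfsg.Agent.ChevalleyStructure.CoxeterGeom Cfsg.Agent.Tits.Roots Cfsg.Agent.Tits.Core
  Cfsg.Agent.Tits.Exchange Cfsg.Agent.Nodes.Reps Cfsg.Agent.Nodes.BNOf Cfsg.Agent.Nodes.StabComb
  Cfsg.Agent.Nodes.Bruhat Cfsg.Agent.Nodes.OppDec Cfsg.Agent.Nodes.LeviDec
open Cfsg.Agent.Nodes.RGDTwD4 (A isCartan)

universe u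

section Emb

variable {F K : Type u} [Field F] [Field K] [Algebra F K] (φ : K ≃ₐ[F] K) [Cub φ] [Fintype K] {q : ℕ}

/-- the ring homomorphism -/
def f0 : K →+* K := (φ : K →+* K)

theorem f0_apply (x : K) : f0 φ x = φ x := rfl

variable {φ} (hK : Fintype.card K = q ^ 3) (hφ : ∀ t, φ t = t ^ q)

include hK hφ in
/-- the parametrisation of the root groups -/
theorem hpar : Cfsg.Agent.SplitTwo.HexPar (φ : K ≃+* K) (Cfsg.Agent.Hexagon.TwD4RGD.X K q) (ev (X1 (φ : K ≃+* K))) (ev X2)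
    (ev (X3 (φ : K ≃+* K))) (ev X4) (ev (X5 (φ : K ≃+* K))) (ev X6) :=
  hexPar (φ := f0 φ) hφ (D4Fixed.twisted_le_fix hK hφ) (fun _ => rfl) (phi3 φ)

/-- the positive relations -/
noncomputable def PP : HexPos φ ↥(twistedD4 K q) := hexPos (Cub.pair (φ := φ)) (fun _ => rfl) (hpar hK hφ)

/-- the embedding -/
noncomputable def ι : Sy φ →* ↥(twistedD4 K q) := (Rels.ofHexPos (PP hK hφ)).hom

theorem ι_inj : Function.Injective (ι hK hφ) := Rels.hom_injective _ fun w hw => (PP hK hφ).inj4 w hw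

theorem fixF (s : F) : (φ : K ≃+* K) (algebraMap F K s) = algebraMap F K s := φ.commutes s

theorem ι_u1 (a : K) : (ι hK hφ (u1 φ a) : GL chevD4.Idx K) = X1 (φ : K ≃+* K) a := by
  rw [ι, Rels.hom_u1]
  exact c1 (φ := f0 φ) hφ (fun _ => rfl) a

theorem ι_u2 (s : F) : (ι hK hφ (u2 φ s) : GL chevD4.Idx K) = X2 (algebraMap F K s) := by
  rw [ι, Rels.hom_u2]
  exact c2 (φ := f0 φ) hφ (fun _ => rfl) (fixF s)

theorem ι_u3 (a : K) : (ι hK hφ (u3 φ a) : GL chevD4.Idx K) = X3 (φ : K ≃+* K) a := by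
  rw [ι, Rels.hom_u3]
  exact c3 (φ := f0 φ) hφ (fun _ => rfl) a

theorem ι_u4 (s : F) : (ι hK hφ (u4 φ s) : GL chevD4.Idx K) = X4 (algebraMap F K s) := by
  rw [ι, Rels.hom_u4]
  exact c4 (φ := f0 φ) hφ (fun _ => rfl) (fixF s)

theorem ι_u5 (a : K) : (ι hK hφ (u5 φ a) : GL chevD4.Idx K) = X5 (φ : K ≃+* K) a := by
  rw [ι, Rels.hom_u5]
  exact (c5 (φ := f0 φ) (σ := (φ : K ≃+* K)) hφ (fun _ => rfl) (- -a)).trans (by rw [neg_neg])

theorem ι_u6 (s : F) : (ι hK hφ (u6 φ s) : GL chevD4.Idx K) = X6 (-algebraMap F K s) := by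
  rw [ι, Rels.hom_u6]
  exact c6 (φ := f0 φ) (σ := (φ : K ≃+* K)) hφ (fun _ => rfl) (by rw [map_neg, fixF])

end Emb

/-! ### two homomorphisms which agree on `u1`, `u6` -/

theorem eq_top_of_sup {G : Type*} [Group G] [Finite G] {p : ℕ} [Fact p.Prime] (hG : IsPGroup p G) (H : Subgroup G)
    (h : H ⊔ commutator G = ⊤) : H = ⊤ :=
  frattini_nongenerating (by
    rw [eq_top_iff, ← h]
    exact sup_le_sup_left (Cfsg.Agent.Lib.FrattiniPGroup.commutator_le_frattini hG) H)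

section Ext

variable {F K : Type u} [Field F] [Field K] [Algebra F K] {φ : K ≃ₐ[F] K} [Cub φ]

theorem finF (F K : Type u) [Field F] [Field K] [Algebra F K] [Finite K] : Finite F :=
  Finite.of_injective _ (algebraMap F K).injective

theorem isPGroup_Sy [Finite K] {p n : ℕ} [Fact p.Prime] (hF : Nat.card F = p ^ n) (hK : Nat.card K = (p ^ n) ^ 3) :
    IsPGroup p (Sy φ) := by
  have : Finite F := finF F K
  refine IsPGroup.of_card (n := n * 12) ?_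
  rw [Sy.card_eq, hF, hK]
  ring

/-- homomorphisms which agree on `u1`, `u6` are equal -/
theorem hom_ext [Finite K] {p n : ℕ} [Fact p.Prime] (hF : Nat.card F = p ^ n) (hK : Nat.card K = (p ^ n) ^ 3)
    {G : Type*} [Group G] (f g : Sy φ →* G) (h1 : ∀ a, f (u1 φ a) = g (u1 φ a)) (h6 : ∀ u, f (u6 φ u) = g (u6 φ u)) :
    f = g := by
  have : Finite F := finF F K
  have h : MonoidHom.eqLocus f g = ⊤ := by
    refine eq_top_of_sup (isPGroup_Sy hF hK) _ ?_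
    rw [Sy.commutator_eq, eq_top_iff]
    intro x _
    have e : x = u6 φ x.x6 * (u5 φ x.x5 * u3 φ x.x3 * u2 φ x.x2 * u4 φ x.x4) * u1 φ x.x1 := by
      rw [← mul_assoc, ← mul_assoc, ← mul_assoc]
      exact Sy.eq_prod x
    rw [e]
    have hz : u5 φ x.x5 * u3 φ x.x3 * u2 φ x.x2 * u4 φ x.x4 ∈ Z4 φ :=
      mul_mem (mul_mem (mul_mem (Sy.u5_mem _) (Sy.Z3_le_Z4 (Sy.u3_mem _)))
        (Sy.Z3_le_Z4 (Sy.Z2_le_Z3 (Sy.u2_mem _)))) (Sy.Z3_le_Z4 (Sy.Z2_le_Z3 (Sy.Z1_le_Z2 (Sy.u4_mem _))))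
    exact mul_mem (mul_mem ((le_sup_left : MonoidHom.eqLocus f g ≤ _) (h6 _))
      ((le_sup_right : Z4 φ ≤ MonoidHom.eqLocus f g ⊔ Z4 φ) hz)) ((le_sup_left : MonoidHom.eqLocus f g ≤ _) (h1 _))
  ext x
  have : x ∈ MonoidHom.eqLocus f g := h ▸ Subgroup.mem_top x
  exact this

end Ext

/-! ### the roots -/

section Roots

variable {W : Type*} [Group W] (cs : CoxeterSystem CoxeterMatrix.G₂ W)

/-- the root `a β + b α` -/
def rt (a b : ℤ) : Fin 2 → ℤ := ![a, b]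

theorem sr0 : (sr 0 : Fin 2 → ℤ) = rt 1 0 := by
  funext k; fin_cases k <;> rfl
theorem sr1 : (sr 1 : Fin 2 → ℤ) = rt 0 1 := by
  funext k; fin_cases k <;> rfl

theorem s0 (a b : ℤ) : rep cs isCartan (cs.simple 0) (rt a b) = rt (-a + b) b := by
  rw [rep_simple_eq]
  funext k
  fin_cases k
  · show a - pairing A 0 (rt a b) • (sr 0 : Fin 2 → ℤ) 0 = -a + b
    have h1 : pairing A 0 (rt a b) = 2 * a + (-1) * b := by
      unfold pairing
      rw [Fin.sum_univ_two]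
      rfl
    have h2 : (sr 0 : Fin 2 → ℤ) 0 = 1 := rfl
    rw [h1, h2, smul_eq_mul]
    ring
  · show b - pairing A 0 (rt a b) • (sr 0 : Fin 2 → ℤ) 1 = b
    have h2 : (sr 0 : Fin 2 → ℤ) 1 = 0 := rfl
    rw [h2, smul_zero, sub_zero]

theorem s1 (a b : ℤ) : rep cs isCartan (cs.simple 1) (rt a b) = rt a (3 * a - b) := by
  rw [rep_simple_eq]
  funext k
  fin_cases k
  · show a - pairing A 1 (rt a b) • (sr 1 : Fin 2 → ℤ) 0 = a
    have h2 : (sr 1 : Fin 2 → ℤ) 0 = 0 := rfl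
    rw [h2, smul_zero, sub_zero]
  · show b - pairing A 1 (rt a b) • (sr 1 : Fin 2 → ℤ) 1 = 3 * a - b
    have h1 : pairing A 1 (rt a b) = (-3) * a + 2 * b := by
      unfold pairing
      rw [Fin.sum_univ_two]
      rfl
    have h2 : (sr 1 : Fin 2 → ℤ) 1 = 1 := rfl
    rw [h1, h2, smul_eq_mul]
    ring

theorem r10 : IsRoot cs isCartan (rt 1 0) := sr0 ▸ isRoot_sr cs isCartan 0
theorem r01 : IsRoot cs isCartan (rt 0 1) := sr1 ▸ isRoot_sr cs isCartan 1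
theorem r11 : IsRoot cs isCartan (rt 1 1) := by
  have h := (r01 cs).act (cs.simple 0)
  rw [s0] at h
  exact h
theorem r12 : IsRoot cs isCartan (rt 1 2) := by
  have h := (r11 cs).act (cs.simple 1)
  rw [s1] at h
  exact h
theorem r13 : IsRoot cs isCartan (rt 1 3) := by
  have h := (r10 cs).act (cs.simple 1)
  rw [s1] at h
  exact h
theorem r23 : IsRoot cs isCartan (rt 2 3) := by
  have h := (r13 cs).act (cs.simple 0)
  rw [s0] at h
  exact h

theorem rt_nonneg {a b : ℤ} (ha : 0 ≤ a) (hb : 0 ≤ b) : 0 ≤ rt a b := by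
  intro k
  fin_cases k
  · exact ha
  · exact hb

theorem mem_Not1 {a b : ℤ} (h : IsRoot cs isCartan (rt a b)) (ha : 0 < a) (hb : 0 ≤ b) :
    rt a b ∈ NotJ cs isCartan {1} := ⟨h, rt_nonneg ha.le hb, 0, by simp, ha⟩

theorem mem_Not0 {a b : ℤ} (h : IsRoot cs isCartan (rt a b)) (ha : 0 ≤ a) (hb : 0 < b) :
    rt a b ∈ NotJ cs isCartan {0} := ⟨h, rt_nonneg ha hb.le, 1, by simp, hb⟩

end Roots

end Cfsg.Agent.H491.D4
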