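import Mathlib
import Cfsg.Agent.H491.D4.Emb

/-!
# The torus of `³D₄(q)` on the simple root groups (S5261, REAL)
-/

set_option autoImplicit false
set_option linter.unusedSectionVars false

namespace Cfsg.Agent.H491.D4

open Cfsg Cfsg.Lie Cfsg.Agent.H765.D3
open Cfsg.Agent.ChevalleyStructure
open Cfsg.Agent.ChevalleyStructure.D4Comm (xG)
open Cfsg.Agent.ChevalleyStructure.D4Torus (tor val diagU coe_diagU)
open Cfsg.Agent.ChevalleyStructure.D4NConj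
open Cfsg.Agent.ChevalleyStructure.LaurentWord (code code_inl code_inr)

universe u

theorem wt_coef : ∀ s ∈ List.range 24, ∀ i ∈ List.range 4, wt i (4 + s) = D4Cols.coef s i := by decide +kernel

variable {K : Type u} [Field K]

theorem tor_eq (χ : Fin 4 → Kˣ) : tor χ = torG χ := by
  apply Units.ext
  rw [coe_torG]
  show Matrix.diagonal _ = Matrix.diagonal _
  congr 1
  funext k
  rcases k with i | s
  · show ((1 : Kˣ) : K) = dv (fun i => (χ i : K)) (code chevD4 (Sum.inl i))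
    rw [code_inl, dv_def]
    have h : ∀ j, wt j i.val = 0 := fun j => if_pos i.2
    simp only [h, zpow_zero, mul_one, Units.val_one]
  · show (((χ 0 ^ D4Cols.coef s.val 0 * (χ 1 ^ D4Cols.coef s.val 1 * (χ 2 ^ D4Cols.coef s.val 2 *
      χ 3 ^ D4Cols.coef s.val 3))) : Kˣ) : K) = dv (fun i => (χ i : K)) (4 + s.val)
    have h : ∀ i < 4, wt i (4 + s.val) = D4Cols.coef s.val i := fun i hi =>
      wt_coef s.val (List.mem_range.2 s.2) i (List.mem_range.2 hi)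
    rw [dv_def, h 0 (by norm_num), h 1 (by norm_num), h 2 (by norm_num), h 3 (by norm_num)]
    simp only [Units.val_mul, Units.val_zpow_eq_zpow_val, mul_assoc]

theorem tor_conj (χ : Fin 4 → Kˣ) {s : ℕ} (hs : s < 24) (u : K) :
    tor χ * xG s u * (tor χ)⁻¹ = xG s (chi χ s * u) := by
  rw [tor_eq, torG_conj χ hs]

theorem chi_18 (χ : Fin 4 → Kˣ) : (chi χ 18 : K) = χ 0 := by
  show (χ 0 : K) ^ (1 : ℤ) * (χ 1 : K) ^ (0 : ℤ) * (χ 2 : K) ^ (0 : ℤ) * (χ 3 : K) ^ (0 : ℤ) = _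
  simp

theorem chi_14 (χ : Fin 4 → Kˣ) : (chi χ 14 : K) = χ 1 := by
  show (χ 0 : K) ^ (0 : ℤ) * (χ 1 : K) ^ (1 : ℤ) * (χ 2 : K) ^ (0 : ℤ) * (χ 3 : K) ^ (0 : ℤ) = _
  simp

theorem chi_13 (χ : Fin 4 → Kˣ) : (chi χ 13 : K) = χ 2 := by
  show (χ 0 : K) ^ (0 : ℤ) * (χ 1 : K) ^ (0 : ℤ) * (χ 2 : K) ^ (1 : ℤ) * (χ 3 : K) ^ (0 : ℤ) = _
  simp

theorem chi_12 (χ : Fin 4 → Kˣ) : (chi χ 12 : K) = χ 3 := by
  show (χ 0 : K) ^ (0 : ℤ) * (χ 1 : K) ^ (0 : ℤ) * (χ 2 : K) ^ (0 : ℤ) * (χ 3 : K) ^ (1 : ℤ) = _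
  simp

end Cfsg.Agent.H491.D4
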