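import Mathlib
import Cfsg.Agent.H491.D4.Tor

/-!
# The position of `Sy φ` in the root group datum of `³D₄(q)` (S5261, REAL)
-/

set_option autoImplicit false
set_option linter.unusedSectionVars false

namespace Cfsg.Agent.H491.D4

open Cfsg Cfsg.Lie Cfsg.Agent.H765.D3
open Cfsg.Agent.H765.D3.Sy (Q1 Q2 Z1 Z2 Z3 Z4 u1 u2 u3 u4 u5 u6)
open Cfsg.Agent.Hexagon.Pos Cfsg.Agent.Hexagon.PosOfRel Cfsg.Agent.Hexagon.TwD4Par Cfsg.Agent.Hexagon.TwD4Rel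
open Cfsg.Agent.ChevalleyStructure
open Cfsg.Agent.ChevalleyStructure.D4Comm (xG)
open Cfsg.Agent.ChevalleyStructure.D4Twisted
open Cfsg.Agent.ChevalleyStructure.D4Fixed (sig)
open CoxeterSystem Cfsg.Agent.ChevalleyStructure.CoxeterGeom Cfsg.Agent.Tits.Roots Cfsg.Agent.Tits.Core
  Cfsg.Agent.Tits.Exchange Cfsg.Agent.Nodes.Reps Cfsg.Agent.Nodes.BNOf Cfsg.Agent.Nodes.StabComb
  Cfsg.Agent.Nodes.Bruhat Cfsg.Agent.Nodes.OppDec Cfsg.Agent.Nodes.LeviDec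
open Cfsg.Agent.Nodes.RGDTwD4 (A isCartan foldData hp)
open Cfsg.Agent.Nodes
open Cfsg.Agent.ChevalleyStructure.D4U Cfsg.Agent.ChevalleyStructure.TwistedU

universe u

variable {F K : Type u} [Field F] [Field K] [Algebra F K] {φ : K ≃ₐ[F] K} [Cub φ] [Fintype K] {q : ℕ}
  (hK : Fintype.card K = q ^ 3) (hφ : ∀ t, φ t = t ^ q)

/-- the root groups -/
noncomputable abbrev XX (φ : K ≃ₐ[F] K) (q : ℕ) : (Fin 2 → ℤ) → Subgroup ↥(twistedD4 K q) := RGDTwD4.X (f0 φ) q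

/-- the reflections -/
noncomputable abbrev nn (hφ : ∀ t, φ t = t ^ q) : Fin 2 → ↥(twistedD4 K q) := RGDTwD4.n (φ := f0 φ) hφ

theorem nn0 : ((nn hφ 0 : ↥(twistedD4 K q)) : GL chevD4.Idx K) = na K := RGDTwD4.nI_zero

theorem nn1 : ((nn hφ 1 : ↥(twistedD4 K q)) : GL chevD4.Idx K) = nb K := RGDTwD4.nI_one

theorem m1 (a : K) : ι hK hφ (u1 φ a) ∈ XX φ q (sr 1) := by
  show ι hK hφ (u1 φ a) ∈ (RGDFold.R chevD4 hp K RGDTwD4.J (sig (f0 φ)) (sr 1)).subgroupOf (twistedD4 K q)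
  rw [Subgroup.mem_subgroupOf, RGDTwD4.R1]
  refine ⟨?_, D4Fixed.twisted_le_fix hK (φ := f0 φ) hφ (ι hK hφ (u1 φ a)).2⟩
  show (ι hK hφ (u1 φ a) : GL chevD4.Idx K) ∈ RS K [18, 13, 12]
  rw [ι_u1, X1_eq _ (f0 φ) (fun _ => rfl)]
  exact X_mem_RS a

theorem m6 (s : F) : ι hK hφ (u6 φ s) ∈ XX φ q (sr 0) := by
  show ι hK hφ (u6 φ s) ∈ (RGDFold.R chevD4 hp K RGDTwD4.J (sig (f0 φ)) (sr 0)).subgroupOf (twistedD4 K q)
  rw [Subgroup.mem_subgroupOf, RGDTwD4.R0]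
  refine ⟨?_, D4Fixed.twisted_le_fix hK (φ := f0 φ) hφ (ι hK hφ (u6 φ s)).2⟩
  show (ι hK hφ (u6 φ s) : GL chevD4.Idx K) ∈ RS K [14]
  rw [ι_u6]
  rw [X6, w1_eq]
  exact mem_rspan xG (S := {k | k ∈ [14]}) (by simp) _

theorem n5 (a : K) : ι hK hφ (u5 φ a) = nn hφ 0 * ι hK hφ (u1 φ a) * (nn hφ 0)⁻¹ := by
  apply Subtype.ext
  rw [Subgroup.coe_mul, Subgroup.coe_mul, Subgroup.coe_inv, nn0, ι_u5, ι_u1, na_X1]

theorem n3 (a : K) : ι hK hφ (u3 φ a) = nn hφ 1 * ι hK hφ (u5 φ (-a)) * (nn hφ 1)⁻¹ := by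
  apply Subtype.ext
  rw [Subgroup.coe_mul, Subgroup.coe_mul, Subgroup.coe_inv, nn1, ι_u3, ι_u5, nb_X5]

theorem n2 (s : F) : ι hK hφ (u2 φ s) = nn hφ 1 * ι hK hφ (u6 φ s) * (nn hφ 1)⁻¹ := by
  apply Subtype.ext
  rw [Subgroup.coe_mul, Subgroup.coe_mul, Subgroup.coe_inv, nn1, ι_u2, ι_u6, nb_X6]

theorem n4 (s : F) : ι hK hφ (u4 φ s) = nn hφ 0 * ι hK hφ (u2 φ (-s)) * (nn hφ 0)⁻¹ := by
  apply Subtype.ext
  rw [Subgroup.coe_mul, Subgroup.coe_mul, Subgroup.coe_inv, nn0, ι_u4, ι_u2, map_neg, na_X2]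

section RG

variable {W : Type} [Group W] (cs : CoxeterSystem CoxeterMatrix.G₂ W) (p : ℕ) [Fact p.Prime] [CharP K p]

include hK in
theorem rg : RGD cs isCartan p (RGDTwD4.T K q) (nn hφ) (XX φ q) := RGDTwD4.rgd (φ := f0 φ) cs hK hφ p

variable {p}

include hK cs in
theorem cj_mem {x : Fin 2 → ℤ} (hx : IsRoot cs isCartan x) {y : ↥(twistedD4 K q)} (hy : y ∈ XX φ q x) (i : Fin 2) :
    nn hφ i * y * (nn hφ i)⁻¹ ∈ XX φ q (rep cs isCartan (cs.simple i) x) := by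
  obtain ⟨p, hp'⟩ := CharP.exists K
  have : Fact p.Prime := ⟨CharP.char_is_prime K p⟩
  have h8 := (rg (φ := φ) hK hφ cs p).conj i x hx
  rw [← h8]
  exact conj_mem_cj.2 hy

include cs

theorem m1' (a : K) : ι hK hφ (u1 φ a) ∈ XX φ q (rt 0 1) := by
  rw [← sr1]; exact m1 hK hφ a

theorem m6' (s : F) : ι hK hφ (u6 φ s) ∈ XX φ q (rt 1 0) := by
  rw [← sr0]; exact m6 hK hφ s

theorem m5 (a : K) : ι hK hφ (u5 φ a) ∈ XX φ q (rt 1 1) := by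
  have h := cj_mem hK hφ cs (r01 cs) (m1' hK hφ cs a) 0
  rw [s0, ← n5] at h
  exact h

theorem m3 (a : K) : ι hK hφ (u3 φ a) ∈ XX φ q (rt 1 2) := by
  have h := cj_mem hK hφ cs (r11 cs) (m5 hK hφ cs (-a)) 1
  rw [s1, ← n3] at h
  exact h

theorem m2 (s : F) : ι hK hφ (u2 φ s) ∈ XX φ q (rt 1 3) := by
  have h := cj_mem hK hφ cs (r10 cs) (m6' hK hφ cs s) 1
  rw [s1, ← n2] at h
  exact h

theorem m4 (s : F) : ι hK hφ (u4 φ s) ∈ XX φ q (rt 2 3) := by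
  have h := cj_mem hK hφ cs (r13 cs) (m2 hK hφ cs (-s)) 0
  rw [s0, ← n4] at h
  exact h

theorem ι_Q1 {x : Sy φ} (hx : x ∈ Q1 φ) : ι hK hφ x ∈ VJ cs isCartan (XX φ q) {1} := by
  have e : x = u6 φ x.x6 * u5 φ x.x5 * u3 φ x.x3 * u2 φ x.x2 * u4 φ x.x4 := by
    conv_lhs => rw [Sy.eq_prod x]
    rw [Sy.mem_Q1.1 hx]
    show _ * (1 : Sy φ) = _
    rw [mul_one]
  rw [e]
  simp only [map_mul]
  have key : ∀ {a b : ℤ} {y : ↥(twistedD4 K q)}, IsRoot cs isCartan (rt a b) → 0 < a → 0 ≤ b → y ∈ XX φ q (rt a b) →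
      y ∈ VJ cs isCartan (XX φ q) {1} := fun h ha hb hy => RGD.le_Sup (S := NotJ cs isCartan {1}) (mem_Not1 cs h ha hb) hy
  exact mul_mem (mul_mem (mul_mem (mul_mem (key (r10 cs) (by norm_num) (by norm_num) (m6' hK hφ cs _))
    (key (r11 cs) (by norm_num) (by norm_num) (m5 hK hφ cs _)))
    (key (r12 cs) (by norm_num) (by norm_num) (m3 hK hφ cs _)))
    (key (r13 cs) (by norm_num) (by norm_num) (m2 hK hφ cs _)))
    (key (r23 cs) (by norm_num) (by norm_num) (m4 hK hφ cs _))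

theorem ι_Q2 {x : Sy φ} (hx : x ∈ Q2 φ) : ι hK hφ x ∈ VJ cs isCartan (XX φ q) {0} := by
  have e : x = u5 φ x.x5 * u3 φ x.x3 * u2 φ x.x2 * u4 φ x.x4 * u1 φ x.x1 := by
    conv_lhs => rw [Sy.eq_prod x]
    rw [Sy.mem_Q2.1 hx]
    show (1 : Sy φ) * _ * _ * _ * _ * _ = _
    rw [one_mul]
  rw [e]
  simp only [map_mul]
  have key : ∀ {a b : ℤ} {y : ↥(twistedD4 K q)}, IsRoot cs isCartan (rt a b) → 0 ≤ a → 0 < b → y ∈ XX φ q (rt a b) →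
      y ∈ VJ cs isCartan (XX φ q) {0} := fun h ha hb hy => RGD.le_Sup (S := NotJ cs isCartan {0}) (mem_Not0 cs h ha hb) hy
  exact mul_mem (mul_mem (mul_mem (mul_mem (key (r11 cs) (by norm_num) (by norm_num) (m5 hK hφ cs _))
    (key (r12 cs) (by norm_num) (by norm_num) (m3 hK hφ cs _)))
    (key (r13 cs) (by norm_num) (by norm_num) (m2 hK hφ cs _)))
    (key (r23 cs) (by norm_num) (by norm_num) (m4 hK hφ cs _)))
    (key (r01 cs) (by norm_num) (by norm_num) (m1' hK hφ cs _))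

theorem ι_U (x : Sy φ) : ι hK hφ x ∈ RGD.Sup (XX φ q) (RGD.Pos cs isCartan) := by
  have e : x = u6 φ x.x6 * (u5 φ x.x5 * u3 φ x.x3 * u2 φ x.x2 * u4 φ x.x4 * u1 φ x.x1) := by
    conv_lhs => rw [Sy.eq_prod x]
    simp only [mul_assoc]
  rw [e, map_mul]
  refine mul_mem (VJ_le_U {1} (ι_Q1 hK hφ cs (Sy.u6_mem _))) (VJ_le_U {0} (ι_Q2 hK hφ cs ?_))
  exact mul_mem (mul_mem (mul_mem (mul_mem (Sy.Z4_le_Q2 (Sy.u5_mem _)) (Sy.Z4_le_Q2 (Sy.Z3_le_Z4 (Sy.u3_mem _))))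
        (Sy.Z4_le_Q2 (Sy.Z3_le_Z4 (Sy.Z2_le_Z3 (Sy.u2_mem _)))))
        (Sy.Z4_le_Q2 (Sy.Z3_le_Z4 (Sy.Z2_le_Z3 (Sy.Z1_le_Z2 (Sy.u4_mem _)))))) (Sy.u1_mem _)

end RG

end Cfsg.Agent.H491.D4
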