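import Mathlib
import Cfsg.Agent.H491.D4.Pos
import Cfsg.Agent.H780.D4.Stmts

/-!
# The fusion systems of `³D₄(q) ⋊ (field automorphisms)` (S5261, REAL)
-/

set_option autoImplicit false
set_option linter.unusedSectionVars false

namespace Cfsg.Agent.H491.D4

open Cfsg Cfsg.Lie Cfsg.FusionSystem Cfsg.Agent.H765.D3 Cfsg.Agent.H780.D4
open Cfsg.Agent.H765.D3.Sy (Q1 Q2 Z1 Z2 Z3 Z4 u1 u2 u3 u4 u5 u6)
open Cfsg.Agent.Hexagon.Pos Cfsg.Agent.Hexagon.PosOfRel Cfsg.Agent.Hexagon.TwD4Par Cfsg.Agent.Hexagon.TwD4Rel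
open Cfsg.Agent.ChevalleyStructure
open Cfsg.Agent.ChevalleyStructure.D4Comm (xG)
open Cfsg.Agent.ChevalleyStructure.D4Torus (tor)
open Cfsg.Agent.Hex.Defs (sh cr nm tr)
open CoxeterSystem Cfsg.Agent.ChevalleyStructure.CoxeterGeom Cfsg.Agent.Tits.Roots Cfsg.Agent.Tits.Core
  Cfsg.Agent.Tits.Exchange Cfsg.Agent.Nodes.Reps Cfsg.Agent.Nodes.BNOf Cfsg.Agent.Nodes.StabComb
  Cfsg.Agent.Nodes.Bruhat Cfsg.Agent.Nodes.OppDec Cfsg.Agent.Nodes.LeviDec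
open Cfsg.Agent.KFacts.RgdOpp Cfsg.Agent.KFacts.RgdAut Cfsg.Agent.KFacts.RgdDiag Cfsg.Agent.KFacts.RgdRigid
  Cfsg.Agent.KFacts.RgdEx
open Cfsg.Agent.Nodes.RGDTwD4 (A isCartan foldData hp)
open Cfsg.Agent.Nodes Cfsg.Agent.H491.FS
open Cfsg.Agent.H756.PU (NormAut AF)

universe u

section

variable {F K : Type u} [Field F] [Field K] [Algebra F K] {φ : K ≃ₐ[F] K} [Cub φ] [Fintype K] {q : ℕ}
  (hK : Fintype.card K = q ^ 3) (hφ : ∀ t, φ t = t ^ q)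

/-- the Weyl group -/
abbrev W2 : Type := CoxeterMatrix.G₂.Group

/-- the Coxeter system -/
abbrev c2 : CoxeterSystem CoxeterMatrix.G₂ W2 := CoxeterMatrix.G₂.toCoxeterSystem

instance finite_W2 : Finite W2 := Cfsg.Agent.Nodes.RGDFold.finite_W (hp := hp) c2 isCartan foldData

/-- `U` -/
noncomputable abbrev UU (φ : K ≃ₐ[F] K) (q : ℕ) : Subgroup ↥(twistedD4 K q) := RGD.Sup (XX φ q) (RGD.Pos c2 isCartan)

include hK hφ in
theorem G1top : RGD.Sup (XX φ q) {x | IsRoot c2 isCartan x} = ⊤ := RGDTwD4.G1_eq_top (φ := f0 φ) c2 hK hφ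

include hK hφ in
theorem GGtop : GG c2 isCartan (RGDTwD4.T K q) (XX φ q) = ⊤ :=
  Cfsg.Agent.KFacts.RgdRigid.GG_eq_top (T := RGDTwD4.T K q) (G1top hK hφ)

/-- the image is `U` -/
theorem range_eq {p n : ℕ} [Fact p.Prime] [CharP K p] (hn : 1 ≤ n) (hq : q = p ^ n) (hF : Nat.card F = q) :
    (ι hK hφ).range = UU φ q := by
  have hp' : p.Prime := Fact.out
  have hq' : IsPrimePow q := hq ▸ hp'.isPrimePow.pow (by omega)
  have hq1 : 1 < q := hq'.one_lt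
  have : Finite F := finF F K
  have hcard : Nat.card (ι hK hφ).range = q ^ 12 := by
    rw [← Nat.card_congr (MonoidHom.ofInjective (ι_inj hK hφ)).toEquiv, Sy.card_eq, hF, Nat.card_eq_fintype_card, hK]
    ring
  have hG := Cfsg.Agent.S1067.result (K := K) hq' hK
  have hpq : ∀ m, m ≠ 0 → p ∣ q ^ m := fun m hm => by
    rw [hq, ← pow_mul]
    exact dvd_pow_self p (Nat.mul_ne_zero (by omega) hm)
  have hidx : (ι hK hφ).range.index = (q ^ 2 - 1) * (q ^ 6 - 1) * (q ^ 8 + q ^ 4 + 1) := by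
    have h1 := (ι hK hφ).range.card_mul_index
    rw [hcard, hG, mul_assoc, mul_assoc] at h1
    have h2 := Nat.eq_of_mul_eq_mul_left (pow_pos (by omega) 12) h1
    rw [h2, mul_assoc]
  have hnd : ¬ p ∣ (ι hK hφ).range.index := by
    rw [hidx]
    intro h
    have hs : ∀ m, m ≠ 0 → ¬ p ∣ q ^ m - 1 := fun m hm h => by
      have h0 := hpq m hm
      have h1 : 1 ≤ q ^ m := Nat.one_le_pow _ _ (by omega)
      have : p ∣ 1 := by
        have := (Nat.dvd_add_right h).1 (by rw [Nat.sub_add_cancel h1]; exact h0)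
        exact this
      exact hp'.one_lt.ne' (Nat.dvd_one.1 this)
    rcases (Nat.Prime.dvd_mul hp').1 h with h | h
    · rcases (Nat.Prime.dvd_mul hp').1 h with h | h
      · exact hs 2 (by norm_num) h
      · exact hs 6 (by norm_num) h
    · have h1 : p ∣ 1 := (Nat.dvd_add_right (dvd_add (hpq 8 (by norm_num)) (hpq 4 (by norm_num)))).1 h
      exact hp'.one_lt.ne' (Nat.dvd_one.1 h1)
  have hle : (ι hK hφ).range ≤ UU φ q := by
    rintro _ ⟨x, rfl⟩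
    exact ι_U hK hφ c2 x
  obtain ⟨P, hP⟩ := Cfsg.Agent.KFacts.RgdAutFacts.exists_sylow (rg (φ := φ) hK hφ c2 p) (GGtop hK hφ)
  have hP' : (P : Subgroup ↥(twistedD4 K q)) = UU φ q := hP
  have hUp : IsPGroup p ↥(UU φ q) := by
    rw [← hP']
    exact P.2
  refine le_antisymm hle ?_
  rw [← Subgroup.relIndex_eq_one]
  by_contra hne
  obtain ⟨k, hk⟩ := hUp.index ((ι hK hφ).range.subgroupOf (UU φ q))
  have h1 : p ∣ (ι hK hφ).range.relIndex (UU φ q) := by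
    have h2 : (ι hK hφ).range.relIndex (UU φ q) = p ^ k := hk
    rw [h2] at hne ⊢
    exact dvd_pow_self p (fun h => hne (by rw [h, pow_zero]))
  exact hnd (h1.trans ⟨_, (Subgroup.relIndex_mul_index hle).symm⟩)

/-- the isomorphism -/
noncomputable def ee {p n : ℕ} [Fact p.Prime] [CharP K p] (hn : 1 ≤ n) (hq : q = p ^ n) (hF : Nat.card F = q) :
    Sy φ ≃* ↥(UU φ q) :=
  (MonoidHom.ofInjective (ι_inj hK hφ)).trans (MulEquiv.subgroupCongr (range_eq hK hφ hn hq hF))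

theorem ee_apply {p n : ℕ} [Fact p.Prime] [CharP K p] (hn : 1 ≤ n) (hq : q = p ^ n) (hF : Nat.card F = q) (x : Sy φ) :
    ((ee hK hφ hn hq hF x : ↥(UU φ q)) : ↥(twistedD4 K q)) = ι hK hφ x := rfl

/-- the positions of `Q1`, `Q2` -/
theorem mem_Q1_iff {p : ℕ} [Fact p.Prime] [CharP K p] (x : Sy φ) :
    x ∈ Q1 φ ↔ ι hK hφ x ∈ VJ c2 isCartan (XX φ q) {1} := by
  refine ⟨fun hx => ι_Q1 hK hφ c2 hx, fun hx => ?_⟩
  have R := rg (φ := φ) hK hφ c2 p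
  set y := u6 φ x.x6 * u5 φ x.x5 * u3 φ x.x3 * u2 φ x.x2 * u4 φ x.x4 with hy
  have e : x = y * u1 φ x.x1 := Sy.eq_prod x
  have hyQ : y ∈ Q1 φ := mul_mem (mul_mem (mul_mem (mul_mem (Sy.u6_mem _) (Sy.Z4_le_Q1 (Sy.u5_mem _)))
        (Sy.Z4_le_Q1 (Sy.Z3_le_Z4 (Sy.u3_mem _))))
        (Sy.Z4_le_Q1 (Sy.Z3_le_Z4 (Sy.Z2_le_Z3 (Sy.u2_mem _)))))
        (Sy.Z4_le_Q1 (Sy.Z3_le_Z4 (Sy.Z2_le_Z3 (Sy.Z1_le_Z2 (Sy.u4_mem _)))))
  have h1 : ι hK hφ (u1 φ x.x1) ∈ VJ c2 isCartan (XX φ q) {1} := by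
    have e2 : u1 φ x.x1 = y⁻¹ * x := by rw [eq_inv_mul_iff_mul_eq, ← e]
    rw [e2, map_mul]
    exact mul_mem (ι_Q1 hK hφ c2 (inv_mem hyQ)) hx
  have h2 := (Subgroup.mem_normalizer_iff.1 ((n_mem_norm_VJ R (i := 1) (j := 1)).2 rfl) _).1 h1
  have h3 := cj_mem hK hφ c2 (isRoot_sr c2 isCartan 1) (m1 hK hφ x.x1) 1
  rw [rep_simple_sr] at h3
  have h4 := neg_inf_U R h3 (VJ_le_U _ h2)
  have h5 : ι hK hφ (u1 φ x.x1) = ι hK hφ 1 := by
    rw [map_one]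
    exact mul_eq_left.1 (mul_inv_eq_one.1 h4)
  have h6 := ι_inj hK hφ h5
  exact congrArg Sy.x1 h6

theorem mem_Q2_iff {p : ℕ} [Fact p.Prime] [CharP K p] (x : Sy φ) :
    x ∈ Q2 φ ↔ ι hK hφ x ∈ VJ c2 isCartan (XX φ q) {0} := by
  refine ⟨fun hx => ι_Q2 hK hφ c2 hx, fun hx => ?_⟩
  have R := rg (φ := φ) hK hφ c2 p
  set y := u5 φ x.x5 * u3 φ x.x3 * u2 φ x.x2 * u4 φ x.x4 * u1 φ x.x1 with hy
  have e : x = u6 φ x.x6 * y := by
    conv_lhs => rw [Sy.eq_prod x]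
    rw [hy]
    simp only [mul_assoc]
  have hyQ : y ∈ Q2 φ := mul_mem (mul_mem (mul_mem (mul_mem (Sy.Z4_le_Q2 (Sy.u5_mem _))
        (Sy.Z4_le_Q2 (Sy.Z3_le_Z4 (Sy.u3_mem _))))
        (Sy.Z4_le_Q2 (Sy.Z3_le_Z4 (Sy.Z2_le_Z3 (Sy.u2_mem _)))))
        (Sy.Z4_le_Q2 (Sy.Z3_le_Z4 (Sy.Z2_le_Z3 (Sy.Z1_le_Z2 (Sy.u4_mem _)))))) (Sy.u1_mem _)
  have h1 : ι hK hφ (u6 φ x.x6) ∈ VJ c2 isCartan (XX φ q) {0} := by
    have e2 : u6 φ x.x6 = x * y⁻¹ := by rw [eq_mul_inv_iff_mul_eq, ← e]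
    rw [e2, map_mul]
    exact mul_mem hx (ι_Q2 hK hφ c2 (inv_mem hyQ))
  have h2 := (Subgroup.mem_normalizer_iff.1 ((n_mem_norm_VJ R (i := 0) (j := 0)).2 rfl) _).1 h1
  have h3 := cj_mem hK hφ c2 (isRoot_sr c2 isCartan 0) (m6 hK hφ x.x6) 0
  rw [rep_simple_sr] at h3
  have h4 := neg_inf_U R h3 (VJ_le_U _ h2)
  have h5 : ι hK hφ (u6 φ x.x6) = ι hK hφ 1 := by
    rw [map_one]
    exact mul_eq_left.1 (mul_inv_eq_one.1 h4)
  have h6 := ι_inj hK hφ h5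
  exact congrArg Sy.x6 h6

/-! ### the torus -/

theorem X1_word (x : K) : X1 (φ : K ≃+* K) x = xG 18 x * (xG 13 (φ x) * xG 12 (φ (φ x))) := by
  rw [X1, w3_eq]
  rfl

theorem conj_char {t : ↥(twistedD4 K q)} {χ : Fin 4 → Kˣ} (h0 : tor χ = (t : GL chevD4.Idx K))
    (h2 : χ 2 = Units.map (f0 φ : K →* K) (χ 0))
    (h3 : χ 3 = Units.map (f0 φ : K →* K) (Units.map (f0 φ : K →* K) (χ 0))) {b : F} (hb : algebraMap F K b = χ 1) :
    (∀ x, t * ι hK hφ (u1 φ x) * t⁻¹ = ι hK hφ (u1 φ ((χ 0 : K) * x))) ∧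
      ∀ s, t * ι hK hφ (u6 φ s) * t⁻¹ = ι hK hφ (u6 φ (b * s)) := by
  have e2 : (χ 2 : K) = φ (χ 0) := by rw [h2]; rfl
  have e3 : (χ 3 : K) = φ (φ (χ 0)) := by rw [h3]; rfl
  constructor
  · intro x
    apply Subtype.ext
    rw [Subgroup.coe_mul, Subgroup.coe_mul, Subgroup.coe_inv, ι_u1, ι_u1, ← h0, X1_word, X1_word, conj3,
      tor_conj χ (by norm_num), tor_conj χ (by norm_num), tor_conj χ (by norm_num), chi_18, chi_13, chi_12, e2, e3,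
      map_mul, map_mul]
  · intro s
    apply Subtype.ext
    rw [Subgroup.coe_mul, Subgroup.coe_mul, Subgroup.coe_inv, ι_u6, ι_u6, ← h0, X6, X6, w1_eq, w1_eq,
      tor_conj χ (by norm_num), chi_14, map_mul, hb, mul_neg]

/-- the torus acts by characters -/
theorem exists_ch {t : ↥(twistedD4 K q)} (ht : t ∈ RGDTwD4.T K q) : ∃ (a : K) (b : F), a ≠ 0 ∧ b ≠ 0 ∧
    (∀ x, t * ι hK hφ (u1 φ x) * t⁻¹ = ι hK hφ (u1 φ (a * x))) ∧
      ∀ s, t * ι hK hφ (u6 φ s) * t⁻¹ = ι hK hφ (u6 φ (b * s)) := by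
  obtain ⟨χ, h0, h1, h2, h3⟩ := D4H1.exists_char (φ := f0 φ) hK hφ (g := (t : GL chevD4.Idx K)) ht
  obtain ⟨b, hb⟩ := exists_coe φ (t := (χ 1 : K)) h1
  obtain ⟨h4, h5⟩ := conj_char hK hφ h0 h2 h3 hb
  refine ⟨χ 0, b, (χ 0).ne_zero, ?_, h4, h5⟩
  rintro rfl
  rw [map_zero] at hb
  exact (χ 1).ne_zero hb.symm

/-- all characters occur -/
theorem exists_tor (hq : IsPrimePow q) {a : K} {b : F} (ha : a ≠ 0) (hb : b ≠ 0) : ∃ t ∈ RGDTwD4.T K q,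
    (∀ x, t * ι hK hφ (u1 φ x) * t⁻¹ = ι hK hφ (u1 φ (a * x))) ∧
      ∀ s, t * ι hK hφ (u6 φ s) * t⁻¹ = ι hK hφ (u6 φ (b * s)) := by
  classical
  choose χ hχ using fun g : ↥(chevD4.diagonalSubgroup K ⊓ twistedD4 K q) =>
    D4H1.exists_char (φ := f0 φ) hK hφ g.2
  let f : ↥(chevD4.diagonalSubgroup K ⊓ twistedD4 K q) → Kˣ × {b : Kˣ // f0 φ b = b} :=
    fun g => (χ g 0, ⟨χ g 1, (hχ g).2.1⟩)
  have hf : Function.Injective f := by
    intro g g' h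
    have h0 : χ g 0 = χ g' 0 := congrArg Prod.fst h
    have h1 : χ g 1 = χ g' 1 := congrArg (fun x => (Prod.snd x).1) h
    apply Subtype.ext
    rw [← (hχ g).1, ← (hχ g').1]
    congr 1
    funext i
    fin_cases i
    · exact h0
    · exact h1
    · show χ g 2 = χ g' 2
      rw [(hχ g).2.2.1, (hχ g').2.2.1, h0]
    · show χ g 3 = χ g' 3
      rw [(hχ g).2.2.2, (hχ g').2.2.2, h0]
  have hcard : Nat.card (Kˣ × {b : Kˣ // f0 φ b = b}) = (q - 1) * (q ^ 3 - 1) := by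
    rw [Nat.card_prod, D4H1.card_fixed hq.one_lt hK (φ := f0 φ) hφ, D4H1.natCard_units hK, mul_comm]
  have hbij := hf.bijective_of_nat_card_le (by rw [hcard, D4H1.card_H1 (φ := f0 φ) hq hK hφ])
  have hb' : algebraMap F K b ≠ 0 := fun h => hb ((map_eq_zero (algebraMap F K)).1 h)
  obtain ⟨g, hg⟩ := hbij.2 (Units.mk0 a ha, ⟨Units.mk0 _ hb', φ.commutes b⟩)
  have h0 : χ g 0 = Units.mk0 a ha := congrArg Prod.fst hg
  have h1 : χ g 1 = Units.mk0 _ hb' := congrArg (fun x => (Prod.snd x).1) hg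
  have hgT : (⟨(g : GL chevD4.Idx K), g.2.2⟩ : ↥(twistedD4 K q)) ∈ RGDTwD4.T K q := g.2
  refine ⟨⟨(g : GL chevD4.Idx K), g.2.2⟩, hgT, ?_⟩
  have h4 := conj_char hK hφ (t := ⟨(g : GL chevD4.Idx K), g.2.2⟩) (χ := χ g) (b := b) (hχ g).1 (hχ g).2.2.1
    (hχ g).2.2.2 (by rw [h1]; rfl)
  rw [h0] at h4
  exact h4

/-! ### the field automorphisms -/

theorem glE (τ : K ≃+* K) (r : ℕ) (x : K) :
    Cfsg.Agent.ChevStructure.FieldMap.glEquiv chevD4 τ (xG r x) = xG r (τ x) := by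
  rw [← RGDTwD4.xG_eq]
  exact CpAut.RgdTwStd.glE_xG hp.inList τ r x

theorem tau_phi (hφ : ∀ t, φ t = t ^ q) (τ : K ≃+* K) (x : K) : τ (φ x) = φ (τ x) := by rw [hφ, hφ, map_pow]

theorem st_u1 (τ : K ≃+* K) (x : K) : CpAut.RgdTwD4.st q τ (ι hK hφ (u1 φ x)) = ι hK hφ (u1 φ (τ x)) := by
  apply Subtype.ext
  rw [ι_u1]
  show Cfsg.Agent.ChevStructure.FieldMap.glEquiv chevD4 τ (ι hK hφ (u1 φ x) : GL chevD4.Idx K) = _
  rw [ι_u1, X1_word, X1_word, map_mul, map_mul, glE, glE, glE, tau_phi hφ, tau_phi hφ, tau_phi hφ]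

theorem st_u6 (τ : K ≃+* K) {ρ : F ≃+* F} (hτ : ∀ x : F, τ (algebraMap F K x) = algebraMap F K (ρ x)) (x : F) :
    CpAut.RgdTwD4.st q τ (ι hK hφ (u6 φ x)) = ι hK hφ (u6 φ (ρ x)) := by
  apply Subtype.ext
  rw [ι_u6]
  show Cfsg.Agent.ChevStructure.FieldMap.glEquiv chevD4 τ (ι hK hφ (u6 φ x) : GL chevD4.Idx K) = _
  rw [ι_u6, X6, X6, w1_eq, w1_eq, glE, map_neg, hτ]

/-! ### the centralisers of the unipotent radicals -/

theorem hconn : ∀ J : Set (Fin 2), J.Nonempty → J ≠ Set.univ → ∃ a ∈ J, ∃ b, b ∉ J ∧ CoxeterMatrix.G₂ a b ≠ 2 := by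
  intro J h1 h2
  obtain ⟨a, ha⟩ := h1
  obtain ⟨b, hb⟩ := (Set.ne_univ_iff_exists_notMem J).1 h2
  refine ⟨a, ha, b, hb, ?_⟩
  have hab : a ≠ b := fun h => hb (h ▸ ha)
  fin_cases a <;> fin_cases b
  · exact absurd rfl hab
  · show (6 : ℕ) ≠ 2
    decide
  · show (6 : ℕ) ≠ 2
    decide
  · exact absurd rfl hab

include hK hφ in
theorem cent_le (hq : IsPrimePow q) (p : ℕ) [Fact p.Prime] [CharP K p] (i : Fin 2) :
    Subgroup.centralizer (VJ c2 isCartan (XX φ q) {i} : Set ↥(twistedD4 K q)) ≤ VJ c2 isCartan (XX φ q) {i} := by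
  intro c hc
  have R := rg (φ := φ) hK hφ c2 p
  have hJ : ({i} : Set (Fin 2)) ≠ Set.univ := by
    intro h
    have h0 : (0 : Fin 2) ∈ ({i} : Set (Fin 2)) := h ▸ Set.mem_univ _
    have h1 : (1 : Fin 2) ∈ ({i} : Set (Fin 2)) := h ▸ Set.mem_univ _
    exact absurd (h0.trans h1.symm) (by decide)
  obtain ⟨t, ht, v, hv, rfl, h1, -⟩ := Cfsg.Agent.KFacts.RgdVJ.cent_VJ R hconn hJ (c := c) (by
    rw [GGtop hK hφ]
    exact Subgroup.mem_top _) fun v hv => (Subgroup.mem_centralizer_iff.1 hc v hv).symm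
  have ht1 : t ∈ Subgroup.center ↥(twistedD4 K q) := by
    have h2 : RGD.Sup (XX φ q) {x | IsRoot c2 isCartan x} ≤ Subgroup.centralizer {t} := by
      refine RGD.Sup_le fun x hx u hu => ?_
      rw [Subgroup.mem_centralizer_singleton_iff]
      exact (h1 x hx u hu).symm
    rw [G1top hK hφ] at h2
    rw [Subgroup.mem_center_iff]
    intro g
    exact Subgroup.mem_centralizer_singleton_iff.1 (h2 (Subgroup.mem_top g))
  obtain ⟨hs, hnc⟩ := Cfsg.Agent.S1071.result (K := K) hq hK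
  have hz : Subgroup.center ↥(twistedD4 K q) = ⊥ := by
    rcases (Subgroup.instNormalCenter (G := ↥(twistedD4 K q))).eq_bot_or_eq_top with h | h
    · exact h
    · exfalso
      exact hnc ⟨⟨fun a b => (Subgroup.mem_center_iff.1 (h ▸ Subgroup.mem_top a : a ∈ Subgroup.center _) b).symm⟩⟩
  rw [hz, Subgroup.mem_bot] at ht1
  rw [ht1, one_mul]
  exact hv

end

/-! ### the result -/

section

variable {F K : Type u} [Field F] [Field K] [Algebra F K] {φ : K ≃ₐ[F] K} [Cub φ]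

theorem IsTor.u1 {α : MulAut (Sy φ)} {s : K} {t : F} {τ : K ≃+* K} {ρ : F ≃+* F} (h : IsTor α s t τ ρ) (x : K) :
    α (u1 φ x) = Sy.u1 φ (s * τ x) := by
  ext
  · rw [h.x1]; rfl
  · rw [h.x6]
    show t * ρ 0 = 0
    rw [map_zero, mul_zero]
  · rw [h.x5]
    show t • (s * τ 0) = 0
    rw [map_zero, mul_zero, smul_zero]
  · rw [h.x3]
    show t • (sh φ s * τ 0) = 0
    rw [map_zero, mul_zero, smul_zero]
  · rw [h.x2]
    show nm φ s * t * ρ 0 = 0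
    rw [map_zero, mul_zero]
  · rw [h.x4]
    show nm φ s * t ^ 2 * ρ 0 = 0
    rw [map_zero, mul_zero]

theorem IsTor.u6 {α : MulAut (Sy φ)} {s : K} {t : F} {τ : K ≃+* K} {ρ : F ≃+* F} (h : IsTor α s t τ ρ) (x : F) :
    α (u6 φ x) = Sy.u6 φ (t * ρ x) := by
  ext
  · rw [h.x1]
    show s * τ 0 = 0
    rw [map_zero, mul_zero]
  · rw [h.x6]; rfl
  · rw [h.x5]
    show t • (s * τ 0) = 0
    rw [map_zero, mul_zero, smul_zero]
  · rw [h.x3]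
    show t • (sh φ s * τ 0) = 0
    rw [map_zero, mul_zero, smul_zero]
  · rw [h.x2]
    show nm φ s * t * ρ 0 = 0
    rw [map_zero, mul_zero]
  · rw [h.x4]
    show nm φ s * t ^ 2 * ρ 0 = 0
    rw [map_zero, mul_zero]

/-- **(REALD)**, from the existence of the automorphisms -/
theorem stRealD_of (hG : StGrpD.{u}) : StRealD.{u} := by
  intro F K _ _ _ φ _ p n _ H D hD hDc hT
  have hfin := H.fin
  have hchar := H.char
  have : Fintype K := Fintype.ofFinite K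
  have hp' : p.Prime := Fact.out
  have hcK : Fintype.card K = (p ^ n) ^ 3 := by rw [← Nat.card_eq_fintype_card, H.cardK]
  have hq : IsPrimePow (p ^ n) := hp'.isPrimePow.pow (by have := H.hn; omega)
  obtain ⟨-, -, hex, hTT, -, -⟩ := hG H
  have R := rg (φ := φ) hcK H.phi c2 p
  have hj : ∀ f g : Sy φ →* ↥(twistedD4 K (p ^ n)), (∀ a, f (u1 φ a) = g (u1 φ a)) →
      (∀ u, f (u6 φ u) = g (u6 φ u)) → f = g := fun f g => hom_ext H.card H.cardK f g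
  set e := ee hcK H.phi H.hn rfl H.card with he
  -- the extensions
  have hext : ∀ d ∈ D, ∃ α : MulAut ↥(twistedD4 K (p ^ n)), Diag (RGDTwD4.T K (p ^ n)) (XX φ (p ^ n)) α 1 ∧
      ∀ x, ((e (d x) : ↥(UU φ (p ^ n))) : ↥(twistedD4 K (p ^ n))) = α (e x) := by
    intro d hd
    obtain ⟨s, t, τ, ρ, h⟩ := hTT d (hD hd)
    obtain ⟨g, hg, hg1, hg6⟩ := exists_tor hcK H.phi hq h.nes h.net
    refine ⟨MulAut.conj g * CpAut.RgdTwD4.st (p ^ n) τ, ?_, ?_⟩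
    · have h2 := (diag_conj R hg).mul (CpAut.RgdTwD4.ntau_st (φ := f0 φ) H.phi hcK τ c2 p).diag
      rwa [one_mul] at h2
    · have h3 := hj ((ι hcK H.phi).comp d.toMonoidHom)
        ((MulAut.conj g * CpAut.RgdTwD4.st (p ^ n) τ).toMonoidHom.comp (ι hcK H.phi)) (fun a => ?_) (fun u => ?_)
      · intro x
        exact DFunLike.congr_fun h3 x
      · show ι hcK H.phi (d (u1 φ a)) = g * CpAut.RgdTwD4.st (p ^ n) τ (ι hcK H.phi (u1 φ a)) * g⁻¹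
        rw [IsTor.u1 h, st_u1, hg1]
      · show ι hcK H.phi (d (u6 φ u)) = g * CpAut.RgdTwD4.st (p ^ n) τ (ι hcK H.phi (u6 φ u)) * g⁻¹
        rw [IsTor.u6 h, st_u6 hcK H.phi τ h.res, hg6]
  have htor : ∀ t ∈ RGDTwD4.T K (p ^ n), ∃ d ∈ D, ∀ x,
      ((e (d x) : ↥(UU φ (p ^ n))) : ↥(twistedD4 K (p ^ n))) = t * e x * t⁻¹ := by
    intro t ht
    obtain ⟨a, b, ha, hb, h1, h6⟩ := exists_ch hcK H.phi ht
    obtain ⟨α, hα⟩ := hex a b (RingEquiv.refl K) (RingEquiv.refl F) ha hb (fun _ => rfl)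
    refine ⟨α, hT a b α hα, ?_⟩
    have h3 := hj ((ι hcK H.phi).comp α.toMonoidHom) ((MulAut.conj t).toMonoidHom.comp (ι hcK H.phi))
      (fun x => ?_) (fun u => ?_)
    · intro x
      exact DFunLike.congr_fun h3 x
    · show ι hcK H.phi (α (u1 φ x)) = t * ι hcK H.phi (u1 φ x) * t⁻¹
      rw [IsTor.u1 hα, h1]
      rfl
    · show ι hcK H.phi (α (u6 φ u)) = t * ι hcK H.phi (u6 φ u) * t⁻¹
      rw [IsTor.u6 hα, h6]
      rfl
  obtain ⟨Fs, hF1, hF2, hF3, -, hF5⟩ := real_rgd R (G1top hcK H.phi) e D hDc hext htor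
  refine ⟨Fs, hF1, hF2, hF3, ?_, ?_⟩
  · exact hF5 1 (cent_le hcK H.phi hq p 1) (Q1 φ) fun x => mem_Q1_iff (p := p) hcK H.phi x
  · exact hF5 0 (cent_le hcK H.phi hq p 0) (Q2 φ) fun x => mem_Q2_iff (p := p) hcK H.phi x

end

end Cfsg.Agent.H491.D4
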